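import Groth.Agent.Lib.ProjSpace.BaseChange
import Groth.Agent.Lib.ProjSub.MapZero
import Groth.Agent.Lib.LefPen45.HypSheaf
import Groth.Agent.Lib.Ideal.Comap

/-!
Hypersurfaces under extension of scalars followed by a diagonal change of coordinates.
-/

set_option autoImplicit false

universe u

open CategoryTheory CategoryTheory.Limits AlgebraicGeometry TopologicalSpace Opposite MvPolynomial
open LefPen

noncomputable section

namespace Groth.Agent.Lib.HypSeq89

open Groth.Agent.Lib Groth.Agent.Lib.ProjSpace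

variable {r : ℕ} {K L : Type u} [Field K] [Field L] (φ : K →+* L) (c : Fin (r + 1) → Lˣ)

/-- `X_i ↦ c_i X_i`. -/
def diagAlg : MvPolynomial (Fin (r + 1)) L →ₐ[L] MvPolynomial (Fin (r + 1)) L :=
  aeval fun i => C (c i : L) * X i

theorem diagAlg_monomial (s : Fin (r + 1) →₀ ℕ) (a : L) :
    diagAlg c (monomial s a) = monomial s (a * ∏ i, (c i : L) ^ s i) := by
  rw [diagAlg, aeval_monomial, monomial_eq, Finsupp.prod_fintype _ _ (by simp),
    Finsupp.prod_fintype _ _ (by simp), MvPolynomial.algebraMap_eq, C_mul, map_prod, mul_assoc,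
    ← Finset.prod_mul_distrib]
  refine congrArg (C a * ·) (Finset.prod_congr rfl fun i _ => ?_)
  rw [mul_pow, C_pow]

/-- `X_i ↦ c_i X_i` as a graded ring hom. -/
def diagHom : GradedRingHom (CohB1.polyGrading r L) (CohB1.polyGrading r L) where
  toRingHom := (diagAlg c).toRingHom
  map_mem {n p} h := (mem_homogeneousSubmodule n _).mpr <| by
    rw [← p.support_sum_monomial_coeff]
    change ((diagAlg c) _).IsHomogeneous n
    rw [map_sum]
    refine IsHomogeneous.sum _ _ _ fun s hs => ?_
    rw [diagAlg_monomial]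
    exact isHomogeneous_monomial _ (Finsupp.degree_eq_weight_one (σ := Fin (r + 1)) (R := ℕ) ▸
      ((mem_homogeneousSubmodule n p).mp h) (mem_support_iff.mp hs))

theorem diagHom_apply (p : MvPolynomial (Fin (r + 1)) L) : diagHom c p = diagAlg c p := rfl

theorem diag_comp (c' : Fin (r + 1) → Lˣ) (p : MvPolynomial (Fin (r + 1)) L) :
    diagAlg c (diagAlg c' p) = diagAlg (c * c') p := by
  rw [← AlgHom.comp_apply]
  refine congrArg (fun f : _ →ₐ[L] _ => f p) (MvPolynomial.algHom_ext fun i => ?_)
  simp [diagAlg]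
  ring

theorem diag_one (p : MvPolynomial (Fin (r + 1)) L) : diagAlg (1 : Fin (r + 1) → Lˣ) p = p := by
  conv_rhs => rw [← AlgHom.id_apply (R := L) p]
  refine congrArg (fun f : _ →ₐ[L] _ => f p) (MvPolynomial.algHom_ext fun i => ?_)
  simp [diagAlg]

theorem irrelevant_le_diag : HomogeneousIdeal.irrelevant (CohB1.polyGrading r L) ≤
    (HomogeneousIdeal.irrelevant (CohB1.polyGrading r L)).map (diagHom c) := by
  intro z hz
  have key : ∀ w : MvPolynomial (Fin (r + 1)) L,
      w ∈ HomogeneousIdeal.irrelevant (CohB1.polyGrading r L) ↔ constantCoeff w = 0 := fun w => by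
    rw [HomogeneousIdeal.mem_irrelevant_iff, GradedRing.proj_apply,
      show ((DirectSum.decompose (CohB1.polyGrading r L) w 0 : CohB1.polyGrading r L 0) :
        MvPolynomial (Fin (r + 1)) L) = homogeneousComponent 0 w from decomposition.decompose'_apply w 0,
      homogeneousComponent_zero, C_eq_zero, constantCoeff_eq]
  have h : diagHom c⁻¹ z ∈ HomogeneousIdeal.irrelevant (CohB1.polyGrading r L) := by
    refine (key _).2 ?_
    rw [diagHom_apply]
    refine Eq.trans ?_ ((key z).1 hz)
    refine DFunLike.congr_fun (MvPolynomial.ringHom_ext (f := constantCoeff.comp (diagAlg c⁻¹).toRingHom)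
      (g := constantCoeff) (fun a => ?_) fun i => ?_) z
    · simp [diagAlg]
    · simp [diagAlg]
  have := Ideal.mem_map_of_mem (diagHom c)
    (I := (HomogeneousIdeal.irrelevant (CohB1.polyGrading r L)).toIdeal) h
  rwa [diagHom_apply, diagHom_apply, diag_comp, mul_inv_cancel, diag_one] at this

/-- The diagonal automorphism. -/
def diagMap : CohB1.ProjSpace r L ⟶ CohB1.ProjSpace r L :=
  Proj.map (diagHom c) (irrelevant_le_diag c)

theorem diagMap_comp (c' : Fin (r + 1) → Lˣ) (h : c * c' = 1) : diagMap c ≫ diagMap c' = 𝟙 _ := by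
  refine (Proj.map_comp (diagHom c') (diagHom c) (irrelevant_le_diag c') (irrelevant_le_diag c)).symm.trans
    (Eq.trans ?_ (Proj.map_id (𝒜 := CohB1.polyGrading r L)))
  congr 1
  refine GradedRingHom.ext fun p => ?_
  change diagAlg c (diagAlg c' p) = p
  rw [diag_comp, h, diag_one]

theorem isIso_diagMap : IsIso (diagMap c) :=
  ⟨⟨diagMap c⁻¹, diagMap_comp c c⁻¹ (mul_inv_cancel c), diagMap_comp c⁻¹ c (inv_mul_cancel c)⟩⟩

theorem diagMap_toSpec :
    diagMap c ≫ CohB1.ProjSpace.toSpec r L = CohB1.ProjSpace.toSpec r L := by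
  refine (Category.assoc _ _ _).symm.trans ?_
  refine (congrArg (· ≫ Spec.map (CommRingCat.ofHom (algebraMap L (CohB1.polyGrading r L 0))))
    (ProjSub.MapZero.map_toSpecZero (diagHom c) (irrelevant_le_diag c))).trans ?_
  refine (Category.assoc _ _ _).trans (congrArg (Proj.toSpecZero (CohB1.polyGrading r L) ≫ ·) ?_)
  rw [← Spec.map_comp, ← CommRingCat.ofHom_comp]
  congr 2
  refine RingHom.ext fun a => Subtype.ext ?_
  exact (diagAlg c).commutes a

/-- Extension of scalars followed by the diagonal automorphism. -/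
def twistMap : CohB1.ProjSpace r L ⟶ CohB1.ProjSpace r K :=
  diagMap c ≫ BaseChange.projMap r φ

theorem isPullback_twistMap :
    IsPullback (twistMap φ c) (CohB1.ProjSpace.toSpec r L) (CohB1.ProjSpace.toSpec r K)
      (Spec.map (CommRingCat.ofHom φ)) := by
  haveI := isIso_diagMap c
  have h : IsPullback (diagMap c) (CohB1.ProjSpace.toSpec r L) (CohB1.ProjSpace.toSpec r L) (𝟙 _) :=
    IsPullback.of_horiz_isIso ⟨by rw [diagMap_toSpec, Category.comp_id]⟩
  simpa [twistMap] using h.paste_horiz (BaseChange.isPullback_projMap r φ)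

theorem twistMap_eq : twistMap φ c = Proj.map ((diagHom c).comp (BaseChange.mapHom r φ))
    (HomogeneousIdeal.irrelevant_le_map_comp (BaseChange.irrelevant_le_map r φ) (irrelevant_le_diag c)) :=
  (Proj.map_comp _ _ _ _).symm

theorem twist_X (j : Fin (r + 1)) :
    (diagHom c).comp (BaseChange.mapHom r φ) (X j) = C (c j : L) * X j := by
  change diagAlg c (MvPolynomial.map φ (X j)) = _
  simp [diagAlg]

theorem preimage_chart (j : Fin (r + 1)) : twistMap φ c ⁻¹ᵁ chart r K j = chart r L j := by
  rw [twistMap_eq]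
  refine (Proj.map_preimage_basicOpen _ _ (X j)).trans ?_
  rw [twist_X, Proj.basicOpen_mul]
  refine inf_eq_right.mpr fun x _ h => ?_
  exact x.isPrime.ne_top (Ideal.eq_top_of_isUnit_mem _ h ((c j).isUnit.map C))

/-- A constant on a chart. -/
def cstChart (j : Fin (r + 1)) : L →+* Γ(CohB1.ProjSpace r L, chart r L j) :=
  (Proj.awayToSection (CohB1.polyGrading r L) (X j)).hom.comp (Charts.constHom L j)

theorem cstChart_mul_pullback_dehom {d : ℕ} (G : Form r K d) (H : Form r L d)
    (hH : (H : MvPolynomial (Fin (r + 1)) L) = diagAlg c (MvPolynomial.map φ G.1)) (j : Fin (r + 1)) :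
    cstChart j ((c j : L) ^ d) *
      ((twistMap φ c).appLE (chart r K j) (chart r L j) (preimage_chart φ c j).ge).hom (dehom G j) =
      dehom H j := by
  have e : ∀ (t : CohB1.ProjSpace r L ⟶ CohB1.ProjSpace r K) (_ : t = twistMap φ c)
      (h : chart r L j ≤ t ⁻¹ᵁ chart r K j), cstChart j ((c j : L) ^ d) *
      (t.appLE (chart r K j) (chart r L j) h).hom (dehom G j) = dehom H j →
    cstChart j ((c j : L) ^ d) *
      ((twistMap φ c).appLE (chart r K j) (chart r L j) (preimage_chart φ c j).ge).hom (dehom G j) =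
      dehom H j := by
    rintro t rfl h h'; exact h'
  refine e _ (twistMap_eq φ c).symm (by rw [← twistMap_eq]; exact (preimage_chart φ c j).ge) ?_
  refine Subtype.ext (funext fun x => HomogeneousLocalization.val_injective _ ?_)
  haveI := x.1.isPrime
  change (_ * _ : HomogeneousLocalization.AtPrime (CohB1.polyGrading r L) x.1.asHomogeneousIdeal.toIdeal).val = _
  rw [HomogeneousLocalization.val_mul]
  change Localization.mk _ _ *
    Localization.mk ((diagHom c).comp (BaseChange.mapHom r φ) G.1) _ = Localization.mk H.1 _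
  rw [Localization.mk_mul, Localization.mk_eq_mk_iff, Localization.r_iff_exists]
  refine ⟨1, ?_⟩
  simp only [OneMemClass.coe_one, one_mul, Submonoid.coe_mul]
  rw [hH]
  simp only [map_pow, twist_X, mul_pow, ← C_pow]
  simp [diagHom, BaseChange.mapHom]
  rw [show diagAlg c (X j) = C (c j : L) * X j by simp [diagAlg]]
  ring

/-- Pull back of a hypersurface ideal. -/
theorem comap_hypIdeal {d : ℕ} (G : Form r K d) (H : Form r L d)
    (hH : (H : MvPolynomial (Fin (r + 1)) L) = diagAlg c (MvPolynomial.map φ G.1)) :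
    (hypIdeal G).comap (twistMap φ c) = hypIdeal H := by
  refine Scheme.IdealSheafData.ext_of_iSup_eq_top (LefPen45.HypSheaf.chartAff L)
    (Basic.iSup_basicOpen_X_eq_top r L) fun j => ?_
  rw [Ideal.Comap.ideal_comap (twistMap φ c) _ (LefPen45.HypSheaf.chartAff K j)
      (LefPen45.HypSheaf.chartAff L j) (preimage_chart φ c j).ge,
    LefPen45.HypSheaf.hypIdeal_chart, LefPen45.HypSheaf.hypIdeal_chart, Ideal.map_span,
    Set.image_singleton, ← cstChart_mul_pullback_dehom φ c G H hH j]
  refine (Ideal.span_singleton_mul_left_unit ?_ _).symm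
  exact ((c j).isUnit.pow d).map (cstChart j)

/-- Base change of a hypersurface. -/
theorem exists_isPullback {d : ℕ} (G : Form r K d) (H : Form r L d)
    (hH : (H : MvPolynomial (Fin (r + 1)) L) = diagAlg c (MvPolynomial.map φ G.1)) :
    ∃ g : (hypIdeal H).subscheme ⟶ (hypIdeal G).subscheme,
      IsPullback g ((hypIdeal H).subschemeι ≫ CohB1.ProjSpace.toSpec r L)
        ((hypIdeal G).subschemeι ≫ CohB1.ProjSpace.toSpec r K) (Spec.map (CommRingCat.ofHom φ)) := by
  suffices h : ∀ J, J = (hypIdeal G).comap (twistMap φ c) → ∃ g : J.subscheme ⟶ (hypIdeal G).subscheme,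
      IsPullback g (J.subschemeι ≫ CohB1.ProjSpace.toSpec r L)
        ((hypIdeal G).subschemeι ≫ CohB1.ProjSpace.toSpec r K) (Spec.map (CommRingCat.ofHom φ)) from
    h _ (comap_hypIdeal φ c G H hH).symm
  rintro J rfl
  let e := (hypIdeal G).comapIso (twistMap φ c)
  refine ⟨e.hom ≫ pullback.snd (twistMap φ c) (hypIdeal G).subschemeι, IsPullback.paste_vert ?_ (isPullback_twistMap φ c)⟩
  refine (IsPullback.of_iso (IsPullback.of_hasPullback (twistMap φ c) (hypIdeal G).subschemeι) e.symm
    (Iso.refl _) (Iso.refl _) (Iso.refl _) ?_ ?_ (by simp) (by simp)).flip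
  · simp [e]
  · simp only [Iso.symm_hom, Iso.refl_hom, Category.comp_id, Iso.inv_hom_id_assoc]

end Groth.Agent.Lib.HypSeq89
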