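import Groth.Agent.Lib.HypSeq89.Iso
import Groth.Agent.Lib.ProjCoh.Coherent
import Groth.Agent.Lib.ClSub.Quot
import Groth.Agent.Lib.ZarCoh.Morph
import Groth.Agent.S0844
import Groth.Agent.S4466
import Groth.Agent.S1534

/-!
`h⁰` and `h¹` of plane curves.
-/

universe u

open CategoryTheory CategoryTheory.Limits AlgebraicGeometry TopologicalSpace Opposite MvPolynomial

noncomputable section

namespace Groth.Agent.Lib.HypSeq89

open Groth.Agent.Lib Groth.Agent.Lib.ProjCoh LefPen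

variable {r d : ℕ} {k : Type u} [Field k]

local notation "ℙ" => CohB1.ProjSpace r k

theorem subsingleton_TS (n : ℕ) (a : ℤ) (q : ℕ)
    (h₀ : ¬ (q = 0 ∧ 0 ≤ a)) (hn : ¬ (q = n ∧ a ≤ -((n : ℤ) + 1))) :
    Subsingleton (Coh.HH (CohB1.ProjSpace n k) (Sections.TS n k a) q) :=
  haveI : Subsingleton (Coh.HH (CohB1.ProjSpace n k) (Coherent.tw n k a) q) :=
    Groth.Agent.S0844.result k n a q h₀ hn
  (Curves.LES.isoK k (Coherent.twIso (n := n) (R := k) a) q).toEquiv.symm.subsingleton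

theorem finrank_TS_top (n j : ℕ) :
    Module.finrank k (Coh.HH (CohB1.ProjSpace n k) (Sections.TS n k (-((n : ℤ) + 1 + j))) n) =
      (n + j).choose n := by
  obtain ⟨e⟩ := Homog.nonempty_HH_top_equiv n j k
  rw [e.finrank_eq, Groth.Agent.S4466.finrank_homog]

/-- `O(0) ≅ O` on cohomology. -/
def unitK (n : ℕ) (q : ℕ) :
    Coh.HH (CohB1.ProjSpace n k) (Coh.structureModule _) q ≃ₗ[k]
      Coh.HH (CohB1.ProjSpace n k) (Sections.TS n k 0) q :=
  Curves.LES.isoK (X := CohB1.ProjSpace n k) k (M := Coh.structureModule _) (N := Sections.TS n k 0)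
    (ProjTilde.Basic.unitIsoTilde (𝒜 := CohB1.polyGrading n k)) q

theorem finrank_structure_zero (n : ℕ) :
    Module.finrank k (Coh.HH (CohB1.ProjSpace n k) (Coh.structureModule _) 0) = 1 := by
  obtain ⟨e⟩ := Homog.nonempty_HH_zero_equiv n 0 k
  rw [(unitK n 0).finrank_eq]
  exact e.finrank_eq.trans ((Groth.Agent.S4466.finrank_homog k n 0).trans (by simp))

/-- `0 → I → O → O/I → 0`. -/
theorem seq_shortExact (I : (ℙ).IdealSheafData) :
    (ShortComplex.mk (ClSub.idealModι I) (ClSub.toSubscheme I) (kernel.condition _)).ShortExact where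
  exact := ShortComplex.exact_of_f_is_kernel _ (kernelIsKernel _)
  mono_f := inferInstanceAs (Mono (kernel.ι _))
  epi_g := ClSub.Quot.epi_toSubscheme I

theorem finrank_idealMod {G : Form r k d} (hG : G ≠ 0) (q : ℕ) :
    Module.finrank k (Coh.HH ℙ (ClSub.idealMod (hypIdeal G)) q) =
      Module.finrank k (Coh.HH ℙ (Sections.TS r k (-(d : ℤ))) q) :=
  (Curves.LES.isoK k (idealIso hG) q).finrank_eq.symm

theorem finrank_quot_zero {G : Form r k d} (hG : G ≠ 0) (hd : 1 ≤ d) (hr : 2 ≤ r) :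
    Module.finrank k (Coh.HH ℙ (ClSub.quotMod (hypIdeal G)) 0) = 1 := by
  have h0 : Subsingleton (Coh.HH ℙ (ClSub.idealMod (hypIdeal G)) 0) :=
    haveI := subsingleton_TS (k := k) r (-(d : ℤ)) 0 (by omega) (by omega)
    (Curves.LES.isoK k (idealIso hG) 0).toEquiv.symm.subsingleton
  have h1 : Subsingleton (Coh.HH ℙ (ClSub.idealMod (hypIdeal G)) 1) :=
    haveI := subsingleton_TS (k := k) r (-(d : ℤ)) 1 (by omega) (by omega)
    (Curves.LES.isoK k (idealIso hG) 1).toEquiv.symm.subsingleton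
  have hS := seq_shortExact (hypIdeal G)
  let f := Curves.LES.mapK k (ClSub.toSubscheme (hypIdeal G)) 0
  have hinj : Function.Injective f := by
    rw [injective_iff_map_eq_zero]
    intro x hx
    obtain ⟨y, rfl⟩ := (Curves.LES.exactK₂ k hS 0 x).1 hx
    rw [Subsingleton.elim y 0, map_zero]
  have hsurj : Function.Surjective f := fun z =>
    (Curves.LES.exactK₃ k hS 0 1 rfl z).1 (Subsingleton.elim _ _)
  rw [← (LinearEquiv.ofBijective f ⟨hinj, hsurj⟩).finrank_eq, finrank_structure_zero]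

theorem finrank_quot_one {G : Form 2 k d} (hG : G ≠ 0) :
    Module.finrank k (Coh.HH (CohB1.ProjSpace 2 k) (ClSub.quotMod (hypIdeal G)) 1) =
      (d - 1) * (d - 2) / 2 := by
  have hS := seq_shortExact (hypIdeal G)
  have h1 : Subsingleton (Coh.HH (CohB1.ProjSpace 2 k) (Coh.structureModule _) 1) :=
    haveI := subsingleton_TS (k := k) 2 0 1 (by omega) (by omega)
    (unitK 2 1).toEquiv.subsingleton
  have h2 : Subsingleton (Coh.HH (CohB1.ProjSpace 2 k) (Coh.structureModule _) 2) :=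
    haveI := subsingleton_TS (k := k) 2 0 2 (by omega) (by omega)
    (unitK 2 2).toEquiv.subsingleton
  let f := Curves.LES.δK k hS 1 2 rfl
  have hinj : Function.Injective f := by
    rw [injective_iff_map_eq_zero]
    intro x hx
    obtain ⟨y, rfl⟩ := (Curves.LES.exactK₃ k hS 1 2 rfl x).1 hx
    rw [Subsingleton.elim y 0, map_zero]
  have hsurj : Function.Surjective f := fun z =>
    (Curves.LES.exactK₁ k hS 1 2 rfl z).1 (Subsingleton.elim _ _)
  rw [(LinearEquiv.ofBijective f ⟨hinj, hsurj⟩).finrank_eq, finrank_idealMod hG]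
  rcases Nat.lt_or_ge d 3 with hd | hd
  · haveI := subsingleton_TS (k := k) 2 (-(d : ℤ)) 2 (by omega) (by omega)
    rw [Module.finrank_zero_of_subsingleton]
    interval_cases d <;> rfl
  · obtain ⟨j, rfl⟩ := Nat.exists_eq_add_of_le hd
    have e : (-((3 + j : ℕ) : ℤ)) = -(((2 : ℕ) : ℤ) + 1 + j) := by push_cast; ring
    rw [e, finrank_TS_top, Nat.choose_two_right]
    congr 1
    have a1 : 2 + j - 1 = j + 1 := by omega
    have a2 : 3 + j - 1 = j + 2 := by omega
    have a3 : 3 + j - 2 = j + 1 := by omega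
    rw [a1, a2, a3, add_comm 2 j]

/-- `H^q(P, ι_*M) ≅ H^q(X, M)` over the base. -/
def pushK {X : Scheme.{u}} [X.Over (Spec (CommRingCat.of k))] (ι : X ⟶ ℙ) [IsAffineHom ι]
    (hι : X ↘ Spec (CommRingCat.of k) = ι ≫ ℙ ↘ Spec (CommRingCat.of k))
    (M : X.Modules) [M.IsQuasicoherent] (q : ℕ) :
    Coh.HH ℙ ((Coh.push ι).obj M) q ≃ₗ[k] Coh.HH X M q :=
  { ZarCoh.Morph.affineEquiv ι M q with
    map_smul' := fun a x => ZarCoh.Morph.affineEquiv_smul ι M q _ _
      (by rw [hι]; rfl) x }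

end Groth.Agent.Lib.HypSeq89
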