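import Groth.Prelude.Def_ModFun
import Groth.Agent.S7840
import Groth.Agent.Lib.HypSeq89.Twist
import Groth.Agent.Lib.GeomConn.Geometric
import Groth.Agent.H2.Rigid.GeomIrred
import Groth.Agent.Lib.SchTopo.Basic
import Groth.Agent.Lib.ProjSpace.Dim
import Groth.Agent.Lib.ZarCoh.Affine

/-!
Smooth plane cubics are curves of genus one.
-/

universe u

open CategoryTheory CategoryTheory.Limits AlgebraicGeometry TopologicalSpace Opposite
open LefPen

noncomputable section

namespace Groth.Agent.Lib.HypSeq89

open Groth.Agent.Lib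

/-- Dimension of a proper closed subscheme of an irreducible scheme. -/
theorem topologicalKrullDim_add_one_le {X Y : Scheme.{u}} (f : X ⟶ Y) [IsClosedImmersion f]
    [IrreducibleSpace Y] [Nonempty X] (h : Set.range f ≠ Set.univ) :
    topologicalKrullDim X + 1 ≤ topologicalKrullDim Y := by
  rw [SchTopo.Basic.topologicalKrullDim_eq_krullDim_scheme,
    SchTopo.Basic.topologicalKrullDim_eq_krullDim_scheme, ← Order.krullDim_WithTop]
  have hne : ∀ x, ¬ (f x ⤳ genericPoint Y) := fun x hx => h (Set.eq_univ_of_univ_subset fun y _ =>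
    (genericPoint_specializes y).mem_closed f.isClosedEmbedding.isClosed_range
      (hx.mem_closed f.isClosedEmbedding.isClosed_range ⟨x, rfl⟩))
  refine Order.krullDim_le_of_strictMono
    (fun a : WithTop X => WithTop.recTopCoe (genericPoint Y) (fun x => f x) a) ?_
  intro a b hab
  induction b using WithTop.recTopCoe with
  | top =>
    induction a using WithTop.recTopCoe with
    | top => exact absurd hab (lt_irrefl _)
    | coe x => exact lt_of_le_not_ge (genericPoint_specializes (f x)) (hne x)
  | coe y =>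
    induction a using WithTop.recTopCoe with
    | top => exact absurd hab (not_top_lt)
    | coe x =>
      have hxy : x < y := WithTop.coe_lt_coe.1 hab
      show f x < f y
      exact lt_of_le_not_ge (Specializes.map (show y ⤳ x from hxy.le) f.continuous)
        fun hge => hxy.not_ge (f.isClosedEmbedding.isInducing.specializes_iff.1 hge)

variable {K : Type u} [Field K]

/-- The comparison `O_Y → f_*O_X` of an isomorphism. -/
theorem isIso_unitToPush {X Y : Scheme.{u}} (f : X ⟶ Y) [IsIso f] : IsIso (ClSub.unitToPush f) :=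
  CohDelta.BC.Transpose.isIso_of_bijective_basis _ (Scheme.isBasis_affineOpens Y) fun W _ =>
    (ConcreteCategory.bijective_of_isIso (f.app W) :)

/-- The genus is an invariant of the curve over its field. -/
theorem genus_eq_of_iso (k : Type u) [Field k] {X Y : Scheme.{u}} [X.Over (Spec (CommRingCat.of k))]
    [Y.Over (Spec (CommRingCat.of k))] (f : X ⟶ Y) [IsIso f]
    (hf : f ≫ Y ↘ Spec (CommRingCat.of k) = X ↘ Spec (CommRingCat.of k)) :
    Curv2.genus k X = Curv2.genus k Y := by
  have := TensorMod.QCohInv.isQCoh_structureModule X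
  have := isIso_unitToPush f
  let e : Coh.HH Y ((Coh.push f).obj (Coh.structureModule X)) 1 ≃ₗ[k] Coh.HH X (Coh.structureModule X) 1 :=
    { ZarCoh.Morph.affineEquiv f (Coh.structureModule X) 1 with
      map_smul' := fun a x => ZarCoh.Morph.affineEquiv_smul f (Coh.structureModule X) 1 _ _
        (by rw [← hf]; rfl) x }
  exact e.finrank_eq.symm.trans (Curves.LES.isoK k (asIso (ClSub.unitToPush f)) 1).finrank_eq.symm

/-- The plane curve over its field. -/
abbrev pcv {d : ℕ} (F : Form 2 K d) : (hypIdeal F).subscheme ⟶ Spec (CommRingCat.of K) :=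
  (hypIdeal F).subschemeι ≫ CohB1.ProjSpace.toSpec 2 K

theorem exists_mapForm {L : Type u} [Field L] (φ : K →+* L) {d : ℕ} (F : Form 2 K d) :
    ∃ H : Form 2 L d, (H : MvPolynomial (Fin 3) L) = diagAlg 1 (MvPolynomial.map φ F.1) :=
  ⟨⟨MvPolynomial.map φ F.1, (MvPolynomial.mem_homogeneousSubmodule _ _).2
    (((MvPolynomial.mem_homogeneousSubmodule _ _).1 F.2).map φ)⟩, (diag_one _).symm⟩

theorem mapForm_ne_zero {L : Type u} [Field L] (φ : K →+* L) {d : ℕ} {F : Form 2 K d} {H : Form 2 L d}
    (hH : (H : MvPolynomial (Fin 3) L) = diagAlg 1 (MvPolynomial.map φ F.1)) (hF : F ≠ 0) : H ≠ 0 := by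
  rintro rfl
  rw [diag_one] at hH
  exact hF (Subtype.ext (MvPolynomial.map_injective φ φ.injective (hH.symm.trans (map_zero _).symm)))

theorem geometricallyIntegral {d : ℕ} (F : Form 2 K d) (hd : 1 ≤ d) (hF : F ≠ 0) [Smooth (pcv F)] :
    GeometricallyIntegral (pcv F) := by
  letI : (hypIdeal F).subscheme.Over (Spec (CommRingCat.of K)) := ⟨pcv F⟩
  haveI : IsProper ((hypIdeal F).subscheme ↘ Spec (CommRingCat.of K)) :=
    inferInstanceAs (IsProper ((hypIdeal F).subschemeι ≫ CohB1.ProjSpace.toSpec 2 K))
  obtain ⟨h0, hconn, -⟩ := Groth.Agent.S7840.result K d hd F hF rfl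
  have : GeometricallyConnected ((hypIdeal F).subscheme ↘ Spec (CommRingCat.of K)) := by
    rw [GeomConn.Geometric.geometricallyConnected_iff_forall]
    intro L _ _
    obtain ⟨H, hH⟩ := exists_mapForm (algebraMap K L) F
    obtain ⟨g, hg⟩ := exists_isPullback (algebraMap K L) 1 F H hH
    letI : (hypIdeal H).subscheme.Over (Spec (CommRingCat.of L)) := ⟨pcv H⟩
    haveI := (Groth.Agent.S7840.result L d hd H (mapForm_ne_zero (algebraMap K L) hH hF) rfl).2.1
    exact GeomConn.Geometric.connectedSpace_of_surjective hg.isoPullback.hom.continuous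
      hg.isoPullback.hom.homeomorph.surjective
  haveI : GeometricallyConnected (pcv F) := this
  exact Groth.Agent.H2.Rigid.GeomIrred.geometricallyIntegral_of_smooth (pcv F)

theorem range_ne_univ {d : ℕ} (F : Form 2 K d) (hF : F ≠ 0) :
    Set.range (hypIdeal F).subschemeι ≠ Set.univ := by
  intro h
  rw [Scheme.IdealSheafData.range_subschemeι] at h
  have hbot : hypIdeal F = ⊥ := by
    refine Scheme.IdealSheafData.ext ?_
    funext U
    refine le_antisymm (fun s hs => ?_) bot_le
    have hU := (hypIdeal F).coe_support_inter U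
    rw [h, Set.univ_inter] at hU
    rw [Scheme.IdealSheafData.ideal_bot, Pi.bot_apply, Ideal.mem_bot]
    refine (basicOpen_eq_bot_iff s).mp (Opens.ext (Set.eq_empty_iff_forall_notMem.2 fun x hx => ?_))
    have hxU : x ∈ U.1 := (CohB1.ProjSpace 2 K).basicOpen_le s hx
    exact (Scheme.mem_zeroLocus_iff _ _ _).1 (hU.le hxU).1 s hs hx
  have := LefPen45.HypSheaf.hypIdeal_chart F (0 : Fin 3)
  rw [hbot, Scheme.IdealSheafData.ideal_bot, Pi.bot_apply, eq_comm, Ideal.span_singleton_eq_bot] at this
  exact dehom_ne_zero hF 0 this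

theorem topologicalKrullDim_eq_one (F : Form 2 K 3) (hF : F ≠ 0) [Smooth (pcv F)] :
    topologicalKrullDim (hypIdeal F).subscheme = 1 := by
  letI : (hypIdeal F).subscheme.Over (Spec (CommRingCat.of K)) := ⟨pcv F⟩
  haveI := geometricallyIntegral F (by norm_num) hF
  haveI : IsIntegral (hypIdeal F).subscheme :=
    GeometricallyIntegral.geometrically_isIntegral (f := pcv F) (𝟙 _) (𝟙 _) (pcv F) (IsPullback.of_horiz_isIso ⟨by simp⟩)
  have h1 := (Groth.Agent.S7840.result K 3 (by norm_num) F hF rfl).2.2
  refine le_antisymm ?_ ?_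
  · have h := topologicalKrullDim_add_one_le (hypIdeal F).subschemeι (range_ne_univ F hF)
    rw [ProjSpace.Dim.topologicalKrullDim_projSpace_of_field 2 K] at h
    revert h
    induction topologicalKrullDim (hypIdeal F).subscheme with
    | bot => exact fun _ => bot_le
    | coe a =>
      intro h
      have h' : a + 1 ≤ (1 : ℕ∞) + 1 := by
        rw [← WithBot.coe_le_coe, WithBot.coe_add, WithBot.coe_one, one_add_one_eq_two, WithBot.coe_ofNat]
        simpa using h
      exact_mod_cast (ENat.add_le_add_iff_right ENat.one_ne_top).1 h' 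
  · rw [SchTopo.Basic.topologicalKrullDim_eq_krullDim_scheme, Order.one_le_krullDim_iff]
    by_contra hc
    push Not at hc
    haveI : Subsingleton (hypIdeal F).subscheme := ⟨fun x y => by
      have e : ∀ z, z = genericPoint (hypIdeal F).subscheme := fun z => by
        by_contra hz
        exact hc z _ (lt_of_le_not_ge (genericPoint_specializes z)
          fun hge => hz (Inseparable.eq (Specializes.antisymm hge (genericPoint_specializes z))))
      exact (e x).trans (e y).symm⟩
    haveI : IsAffine (hypIdeal F).subscheme := by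
      obtain ⟨x⟩ := (inferInstance : Nonempty (hypIdeal F).subscheme)
      obtain ⟨U, hU, hxU, -⟩ := Opens.isBasis_iff_nbhd.1 (hypIdeal F).subscheme.isBasis_affineOpens
        (Opens.mem_top x)
      have : U = ⊤ := Opens.ext (Set.eq_univ_of_forall fun y => Subsingleton.elim x y ▸ hxU)
      rw [this] at hU
      haveI : IsAffine ((⊤ : (hypIdeal F).subscheme.Opens) : Scheme.{u}) := hU
      exact IsAffine.of_isIso (Scheme.topIso _).inv
    haveI := TensorMod.QCohInv.isQCoh_structureModule (hypIdeal F).subscheme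
    haveI : Subsingleton (Coh.HH (hypIdeal F).subscheme (Coh.structureModule _) 1) :=
      ZarCoh.Affine.HH_subsingleton _ _ 0
    rw [Module.finrank_zero_of_subsingleton] at h1
    norm_num at h1

/-- A smooth plane cubic is a curve of genus one. -/
theorem isCurveOfGenus_one (F : Form 2 K 3) (hF : F ≠ 0) [Smooth (pcv F)] :
    _root_.ModFun.IsCurveOfGenus 1 (pcv F) := by
  haveI := geometricallyIntegral F (by norm_num) hF
  refine ⟨inferInstance, inferInstance, inferInstance, fun Ω _ _ t X i q h => ?_⟩
  let φ : K →+* Ω := (Spec.preimage t).hom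
  obtain ⟨H, hH⟩ := exists_mapForm φ F
  obtain ⟨g, hg⟩ := exists_isPullback φ 1 F H hH
  rw [show Spec.map (CommRingCat.ofHom φ) = t from Spec.map_preimage t] at hg
  have hH0 := mapForm_ne_zero φ hH hF
  haveI : Smooth (pcv H) := MorphismProperty.of_isPullback hg inferInstance
  let e : X ≅ (hypIdeal H).subscheme := h.isoIsPullback _ _ hg
  letI : X.Over (Spec (CommRingCat.of Ω)) := ⟨q⟩
  letI : (hypIdeal H).subscheme.Over (Spec (CommRingCat.of Ω)) := ⟨pcv H⟩
  refine ⟨e.hom.homeomorph.isHomeomorph.topologicalKrullDim_eq.trans (topologicalKrullDim_eq_one H hH0), ?_⟩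
  exact (genus_eq_of_iso Ω e.hom (h.isoIsPullback_hom_snd _ _ hg)).trans
    ((Groth.Agent.S7840.result Ω 3 (by norm_num) H hH0 rfl).2.2.trans rfl)

end Groth.Agent.Lib.HypSeq89
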