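import Groth.Agent.Lib.PlaneCurve.Curve

/-!
Rational points of plane curves.
-/

set_option autoImplicit false
set_option backward.isDefEq.respectTransparency.types false

universe u

open CategoryTheory CategoryTheory.Limits AlgebraicGeometry TopologicalSpace Opposite MvPolynomial
open LefPen Groth.Agent.Lib.LefPen45.Chart

noncomputable section

namespace Groth.Agent.Lib.HypSeq89

open Groth.Agent.Lib

variable {K : Type u} [Field K] {d : ℕ}

/-- A zero of the form in a chart gives a section of the curve. -/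
theorem exists_section (F : Form 2 K d) (j : Fin 3) (a : Fin 2 → K)
    (ha : eval (j.insertNth (1 : K) a) F.1 = 0) :
    ∃ s : Spec (CommRingCat.of K) ⟶ (hypIdeal F).subscheme,
      s ≫ (hypIdeal F).subschemeι ≫ CohB1.ProjSpace.toSpec 2 K = 𝟙 _ := by
  let i := (hypIdeal F).subschemeι
  let q := Ideal.quotientKerAlgEquivOfSurjective (coords_surjective K i j)
  let χ : Coord K i j →ₐ[K] K := (Ideal.Quotient.liftₐ (RingHom.ker (coords K i j))
    (aeval a) fun p hp => by
      obtain ⟨e, rfl⟩ := (PlaneCurve.coords_eq_zero_iff F j p).1 hp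
      rw [map_mul, show aeval a (dehomJ K j F.1) = eval a (dehomJ K j F.1) from rfl,
        eval_dehomJ, ha, zero_mul]).comp q.symm.toAlgHom
  have hU := (chartX K i j).2
  refine ⟨Spec.map (CommRingCat.ofHom χ.toRingHom) ≫ hU.fromSpec, ?_⟩
  change (Spec.map (CommRingCat.ofHom χ.toRingHom) ≫ hU.fromSpec) ≫ (i ≫ CohB1.ProjSpace.toSpec 2 K) = _
  rw [Category.assoc, ← IsAffineOpen.SpecMap_appLE_fromSpec (i ≫ CohB1.ProjSpace.toSpec 2 K)
    (isAffineOpen_top _) hU le_top, IsAffineOpen.fromSpec_top, Scheme.isoSpec_Spec_inv,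
    ← Category.assoc, ← Spec.map_comp, ← Spec.map_comp, ← Spec.map_id]
  congr 1
  ext c
  exact χ.commutes c

/-- A section gives a zero of the form. -/
theorem exists_zero (F : Form 2 K d) (s : Spec (CommRingCat.of K) ⟶ (hypIdeal F).subscheme)
    (hs : s ≫ (hypIdeal F).subschemeι ≫ CohB1.ProjSpace.toSpec 2 K = 𝟙 _) :
    ∃ v : Fin 3 → K, v ≠ 0 ∧ eval v F.1 = 0 := by
  let i := (hypIdeal F).subschemeι
  let x₀ : Spec (CommRingCat.of K) := IsLocalRing.closedPoint K
  obtain ⟨j, hj⟩ := Opens.mem_iSup.1 ((iSup_chartX K i).ge (Opens.mem_top (s x₀)))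
  have hle : (⊤ : (Spec (CommRingCat.of K)).Opens) ≤ s ⁻¹ᵁ (chartX K i j).1 := fun x _ => by
    rwa [show x = x₀ from Subsingleton.elim (α := PrimeSpectrum K) _ _]
  let f : Coord K i j →+* K := (s.appLE (chartX K i j).1 ⊤ hle ≫ (Scheme.ΓSpecIso (CommRingCat.of K)).hom).hom
  have hf : ∀ c, f (cst K i j c) = c := by
    have key : (Scheme.ΓSpecIso (CommRingCat.of K)).inv ≫
        (i ≫ CohB1.ProjSpace.toSpec 2 K).appLE ⊤ (chartX K i j).1 le_top ≫
          s.appLE (chartX K i j).1 ⊤ hle ≫ (Scheme.ΓSpecIso (CommRingCat.of K)).hom = 𝟙 _ := by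
      rw [Scheme.Hom.appLE_comp_appLE_assoc]
      have : ∀ (g : Spec (CommRingCat.of K) ⟶ Spec (CommRingCat.of K)) (_ : g = 𝟙 _) (h),
          g.appLE ⊤ ⊤ h = 𝟙 _ := by
        rintro g rfl h
        simp [Scheme.Hom.appLE]
      rw [this _ hs, Category.id_comp, Iso.inv_hom_id]
    intro c
    have h := ConcreteCategory.congr_hom key c
    simp only [f, cst, CommRingCat.hom_comp, RingHom.comp_apply, CommRingCat.comp_apply, CommRingCat.id_apply] at h ⊢
    exact h
  let g : MvPolynomial (Fin 2) K →ₐ[K] K :=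
    { f.comp (coords K i j).toRingHom with
      commutes' := fun c => by
        change f (coords K i j (MvPolynomial.C c)) = c
        rw [show MvPolynomial.C c = algebraMap K (MvPolynomial (Fin 2) K) c from rfl, AlgHom.commutes]
        exact hf c }
  refine ⟨j.insertNth 1 fun l => g (X l), fun h => one_ne_zero (α := K) ?_, ?_⟩
  · simpa using congrFun h j
  · rw [← eval_dehomJ]
    have e : aeval (fun l => g (X l)) = g := (aeval_unique g).symm
    rw [show eval (fun l => g (X l)) (dehomJ K j F.1) = aeval (fun l => g (X l)) (dehomJ K j F.1) from rfl, e]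
    change f (coords K i j (dehomJ K j F.1)) = 0
    rw [(PlaneCurve.coords_eq_zero_iff F j _).2 dvd_rfl, map_zero]

end Groth.Agent.Lib.HypSeq89
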