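import Groth.Agent.Lib.HypSeq89.GenusOne
import Groth.Agent.Lib.HypSeq89.Twist
import Groth.Agent.Lib.HypSeq89.Point
import Groth.Agent.Lib.LefPen45.ShortWeierstrass
import Mathlib.RingTheory.Localization.Integer

/-!
Diagonal cubics with an optional `xyz` term.
-/

set_option autoImplicit false

universe u

open CategoryTheory AlgebraicGeometry MvPolynomial
open LefPen Groth.Agent.Lib.LefPen45.Chart

noncomputable section

namespace Groth.Agent.Lib.HypSeq89

open Groth.Agent.Lib

variable {K : Type u} [Field K]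

/-- `a₀X³ + a₁Y³ + a₂Z³ + bXYZ`. -/
def diagCubic (a : Fin 3 → K) (b : K) : Form 2 K 3 :=
  ⟨C (a 0) * X 0 ^ 3 + C (a 1) * X 1 ^ 3 + C (a 2) * X 2 ^ 3 + C b * (X 0 * X 1 * X 2),
    (mem_homogeneousSubmodule _ _).2 (by
      have h : ∀ j : Fin 3, (C (a j) * X j ^ 3 : MvPolynomial (Fin 3) K).IsHomogeneous 3 := fun j =>
        ((isHomogeneous_X K j).pow 3).C_mul _
      exact (((h 0).add (h 1)).add (h 2)).add
        ((((isHomogeneous_X K 0).mul (isHomogeneous_X K 1)).mul (isHomogeneous_X K 2)).C_mul b))⟩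

theorem eval_diagCubic (a : Fin 3 → K) (b : K) (v : Fin 3 → K) :
    eval v (diagCubic a b).1 =
      a 0 * v 0 ^ 3 + a 1 * v 1 ^ 3 + a 2 * v 2 ^ 3 + b * (v 0 * v 1 * v 2) := by
  simp [diagCubic]

theorem diagCubic_ne_zero {a : Fin 3 → K} (ha : a 0 ≠ 0) (b : K) : diagCubic a b ≠ 0 := by
  intro h
  have := congrArg (fun F : Form 2 K 3 => eval ![1, 0, 0] F.1) h
  simp [eval_diagCubic] at this
  exact ha this

theorem dehom0 (a : Fin 3 → K) (b : K) : dehomJ K (0 : Fin 3) (diagCubic a b).1 =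
    C (a 0) * 1 ^ 3 + C (a 1) * X 0 ^ 3 + C (a 2) * X 1 ^ 3 + C b * (1 * X 0 * X 1) := by
  simp only [dehomJ, diagCubic, map_add, map_mul, map_pow, aeval_X, aeval_C, MvPolynomial.algebraMap_eq]
  rfl

theorem dehom1 (a : Fin 3 → K) (b : K) : dehomJ K (1 : Fin 3) (diagCubic a b).1 =
    C (a 0) * X 0 ^ 3 + C (a 1) * 1 ^ 3 + C (a 2) * X 1 ^ 3 + C b * (X 0 * 1 * X 1) := by
  simp only [dehomJ, diagCubic, map_add, map_mul, map_pow, aeval_X, aeval_C, MvPolynomial.algebraMap_eq]
  rfl

theorem dehom2 (a : Fin 3 → K) (b : K) : dehomJ K (2 : Fin 3) (diagCubic a b).1 =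
    C (a 0) * X 0 ^ 3 + C (a 1) * X 1 ^ 3 + C (a 2) * 1 ^ 3 + C b * (X 0 * X 1 * 1) := by
  simp only [dehomJ, diagCubic, map_add, map_mul, map_pow, aeval_X, aeval_C, MvPolynomial.algebraMap_eq]
  rfl

theorem smooth_diagCubic {a : Fin 3 → K} {b : K} (ha : ∀ j, a j ≠ 0)
    (hb : (3 : K) ≠ 0 ∧ b = 0 ∨ (3 : K) = 0 ∧ b ≠ 0) : Smooth (pcv (diagCubic a b)) := by
  rw [LefPen45.ShortWeierstrass.smooth_iff]
  intro j
  refine LefPen45.ShortWeierstrass.formallySmooth_of_noSingular _ fun L _ _ v hv => ?_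
  by_contra! hall
  have key : ∀ x y z : L, (algebraMap K L) (a 0) * x ^ 3 + (algebraMap K L) (a 1) * y ^ 3 + (algebraMap K L) (a 2) * z ^ 3 + (algebraMap K L) b * (x * y * z) = 0 →
      3 * (algebraMap K L) (a 0) * x ^ 2 + (algebraMap K L) b * (y * z) = 0 → 3 * (algebraMap K L) (a 1) * y ^ 2 + (algebraMap K L) b * (x * z) = 0 →
      3 * (algebraMap K L) (a 2) * z ^ 2 + (algebraMap K L) b * (x * y) = 0 → x = 0 ∧ y = 0 ∧ z = 0 := by
    intro x y z hF hx hy hz
    have hι : ∀ j, (algebraMap K L) (a j) ≠ 0 := fun j h => ha j ((algebraMap K L).injective (h.trans (algebraMap K L).map_zero.symm))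
    rcases hb with ⟨h3, rfl⟩ | ⟨h3, hb⟩
    · have h3' : (3 : L) ≠ 0 := fun h => h3 ((algebraMap K L).injective (by rw [map_ofNat, h, map_zero]))
      simp [h3', hι] at hx hy hz
      exact ⟨hx, hy, hz⟩
    · have h3' : (3 : L) = 0 := by rw [← map_ofNat (algebraMap K L) 3, h3, map_zero]
      have hb' : (algebraMap K L) b ≠ 0 := fun h => hb ((algebraMap K L).injective (h.trans (algebraMap K L).map_zero.symm))
      simp [h3', hb'] at hx hy hz
      have hxyz : x * y * z = 0 := by rcases hx with rfl | rfl <;> simp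
      rw [hxyz, mul_zero, add_zero] at hF
      rcases hx with h | h <;> rcases hy with h' | h' <;> rcases hz with h'' | h'' <;>
        simp_all
  have e0 := hall 0
  have e1 := hall 1
  fin_cases j
  · change aeval v (dehomJ K (0 : Fin 3) (diagCubic a b).1) = 0 at hv
    change aeval v (pderiv 0 (dehomJ K (0 : Fin 3) (diagCubic a b).1)) = 0 at e0
    change aeval v (pderiv 1 (dehomJ K (0 : Fin 3) (diagCubic a b).1)) = 0 at e1
    rw [dehom0] at hv e0 e1
    simp [pderiv_X, pderiv_pow, -mul_eq_zero] at hv e0 e1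
    have := key 1 (v 0) (v 1) (by linear_combination hv) (by
      linear_combination 3 * hv - v 0 * e0 - v 1 * e1) (by linear_combination e0) (by linear_combination e1)
    exact one_ne_zero this.1
  · change aeval v (dehomJ K (1 : Fin 3) (diagCubic a b).1) = 0 at hv
    change aeval v (pderiv 0 (dehomJ K (1 : Fin 3) (diagCubic a b).1)) = 0 at e0
    change aeval v (pderiv 1 (dehomJ K (1 : Fin 3) (diagCubic a b).1)) = 0 at e1
    rw [dehom1] at hv e0 e1
    simp [pderiv_X, pderiv_pow, -mul_eq_zero] at hv e0 e1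
    have := key (v 0) 1 (v 1) (by linear_combination hv) (by linear_combination e0) (by
      linear_combination 3 * hv - v 0 * e0 - v 1 * e1) (by linear_combination e1)
    exact one_ne_zero this.2.1
  · change aeval v (dehomJ K (2 : Fin 3) (diagCubic a b).1) = 0 at hv
    change aeval v (pderiv 0 (dehomJ K (2 : Fin 3) (diagCubic a b).1)) = 0 at e0
    change aeval v (pderiv 1 (dehomJ K (2 : Fin 3) (diagCubic a b).1)) = 0 at e1
    rw [dehom2] at hv e0 e1
    simp [pderiv_X, pderiv_pow, -mul_eq_zero] at hv e0 e1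
    have := key (v 0) (v 1) 1 (by linear_combination hv) (by linear_combination e0)
      (by linear_combination e1) (by linear_combination 3 * hv - v 0 * e0 - v 1 * e1)
    exact one_ne_zero this.2.2

theorem map_diag_diagCubic {L : Type u} [Field L] (φ : K →+* L) (c : Fin 3 → Lˣ) (a : Fin 3 → K) (b : K)
    (a' : Fin 3 → L) (b' : L) (ha : ∀ j, φ (a j) * (c j : L) ^ 3 = a' j)
    (hb : φ b * ((c 0 : L) * c 1 * c 2) = b') :
    ((diagCubic a' b' : Form 2 L 3) : MvPolynomial (Fin 3) L) =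
      diagAlg c (MvPolynomial.map φ (diagCubic a b).1) := by
  simp [diagCubic, diagAlg, ← ha, ← hb]
  ring

open Polynomial in
theorem descent {R : Type u} [Field R] (e : R) (n : ℕ) :
    ∀ p q r : R[X], p ^ 3 + Polynomial.X * q ^ 3 + Polynomial.X ^ 2 * r ^ 3 +
        Polynomial.C e * Polynomial.X * (p * q * r) = 0 →
      Polynomial.X ^ n ∣ p ∧ Polynomial.X ^ n ∣ q ∧ Polynomial.X ^ n ∣ r := by
  induction n with
  | zero => intros; simp
  | succ n ih =>
    intro p q r h
    have hX : Prime (Polynomial.X : R[X]) := Polynomial.prime_X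
    have hX0 : (Polynomial.X : R[X]) ≠ 0 := hX.ne_zero
    obtain ⟨p', rfl⟩ : Polynomial.X ∣ p := hX.dvd_of_dvd_pow
      (n := 3) ⟨-(q ^ 3 + Polynomial.X * r ^ 3 + Polynomial.C e * (p * q * r)), by linear_combination h⟩
    have h1 : Polynomial.X ^ 2 * p' ^ 3 + q ^ 3 + Polynomial.X * r ^ 3 +
        Polynomial.C e * Polynomial.X * (p' * q * r) = 0 :=
      (mul_eq_zero.1 (show Polynomial.X * (Polynomial.X ^ 2 * p' ^ 3 + q ^ 3 + Polynomial.X * r ^ 3 +
        Polynomial.C e * Polynomial.X * (p' * q * r)) = 0 by linear_combination h)).resolve_left hX0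
    obtain ⟨q', rfl⟩ : Polynomial.X ∣ q := hX.dvd_of_dvd_pow
      (n := 3) ⟨-(Polynomial.X * p' ^ 3 + r ^ 3 + Polynomial.C e * (p' * q * r)), by linear_combination h1⟩
    have h2 : Polynomial.X * p' ^ 3 + Polynomial.X ^ 2 * q' ^ 3 + r ^ 3 +
        Polynomial.C e * Polynomial.X * (p' * q' * r) = 0 :=
      (mul_eq_zero.1 (show Polynomial.X * (Polynomial.X * p' ^ 3 + Polynomial.X ^ 2 * q' ^ 3 + r ^ 3 +
        Polynomial.C e * Polynomial.X * (p' * q' * r)) = 0 by linear_combination h1)).resolve_left hX0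
    obtain ⟨r', rfl⟩ : Polynomial.X ∣ r := hX.dvd_of_dvd_pow
      (n := 3) ⟨-(p' ^ 3 + Polynomial.X * q' ^ 3 + Polynomial.C e * (p' * q' * r)), by linear_combination h2⟩
    obtain ⟨a, b, c⟩ := ih p' q' r'
      ((mul_eq_zero.1 (show Polynomial.X * (p' ^ 3 + Polynomial.X * q' ^ 3 + Polynomial.X ^ 2 * r' ^ 3 +
        Polynomial.C e * Polynomial.X * (p' * q' * r')) = 0 by linear_combination h2)).resolve_left hX0)
    exact ⟨pow_succ' (Polynomial.X : R[X]) n ▸ mul_dvd_mul_left _ a,
      pow_succ' (Polynomial.X : R[X]) n ▸ mul_dvd_mul_left _ b,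
      pow_succ' (Polynomial.X : R[X]) n ▸ mul_dvd_mul_left _ c⟩

open Polynomial in
/-- The twisted cubic over `R(t)` has no rational point. -/
theorem no_zero {R : Type u} [Field R] (e : R) (v : Fin 3 → FractionRing R[X])
    (h : let t := algebraMap R[X] (FractionRing R[X]) Polynomial.X
      v 0 ^ 3 + t * v 1 ^ 3 + t ^ 2 * v 2 ^ 3 +
        algebraMap R[X] (FractionRing R[X]) (Polynomial.C e) * t * (v 0 * v 1 * v 2) = 0) : v = 0 := by
  obtain ⟨⟨s, hs⟩, hw⟩ := IsLocalization.exist_integer_multiples_of_finite (nonZeroDivisors R[X]) v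
  choose w hw using hw
  have hinj := IsFractionRing.injective R[X] (FractionRing R[X])
  have h' : w 0 ^ 3 + Polynomial.X * w 1 ^ 3 + Polynomial.X ^ 2 * w 2 ^ 3 +
      Polynomial.C e * Polynomial.X * (w 0 * w 1 * w 2) = 0 := hinj (by
    simp only [map_add, map_mul, map_pow, map_zero, hw, Algebra.smul_def]
    linear_combination (algebraMap R[X] (FractionRing R[X]) s) ^ 3 * h)
  have hwz : ∀ i, w i = 0 := fun i => by
    by_contra hi
    have hd := fun n => descent e n _ _ _ h'
    have hi' : Polynomial.X ^ ((w i).natDegree + 1) ∣ w i := by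
      fin_cases i <;> [exact (hd _).1; exact (hd _).2.1; exact (hd _).2.2]
    have := Polynomial.natDegree_le_of_dvd hi' hi
    simp at this
  funext i
  have := hw i
  rw [hwz i, map_zero, Algebra.smul_def, eq_comm, mul_eq_zero] at this
  exact this.resolve_left fun h0 => nonZeroDivisors.ne_zero hs (hinj (h0.trans (map_zero _).symm))

end Groth.Agent.Lib.HypSeq89
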